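import Cfsg.Agent.Lib.RuOut.Defs

/-!
Small kernel checks on the orbits and the words.
-/

set_option autoImplicit false
set_option maxRecDepth 100000

namespace Cfsg.Agent.RuOut

open Cfsg.Agent.RuAut

theorem chain_start : chain wX 0 rsX 0 = true ∧ chain wU qU rsU qU = true := by decide +kernel

theorem orb_eq : orbX = (List.range 29).map (fun i => (app wX)^[i] 0) ∧
    orbU = (List.range 7).map (fun i => (app wU)^[i] qU) := by
  decide +kernel

/-- The lists which single out the base use the orbit and earlier base vectors. -/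
noncomputable def sepOKB (orb : List ℕ) (sep : List (List ℕ × List (ℕ × ℕ) × ℕ)) : Bool :=
  (List.range 5).all fun j =>
    let t := sep.getD j ([], [], 0)
    Nat.beq t.2.2 (baseL.getD j 0) && (t.1.all fun s => (orb ++ baseL.take j).elem s) && sameP t.1 t.2.1 t.2.2

theorem sep_ok : sepOKB orbX sepX = true ∧ sepOKB orbU sepU = true ∧ sepX.length = 5 ∧ sepU.length = 5 := by
  decide +kernel

theorem cand_ok : orB 4 (fun k => 1 <<< candX k) 0 116 = maskX ∧ orB 4 (fun k => 1 <<< candU k) 0 112 = maskU := by
  decide +kernel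

theorem letters_ok : ([wX, wU, wH, wJ, hW, xW, yW] ++ named).all (fun w => w.all fun a => decide (a < 12)) = true := by
  decide +kernel

theorem comm_ok : sameW (wH ++ wU) (wU ++ wH) 0 = true ∧ sameW (wJ ++ wU) (wU ++ wJ) 0 = true := by
  decide +kernel

theorem pow_ok : baseL.all (fun b => Nat.beq ((app wX)^[29] b) b && Nat.beq ((app wU)^[7] b) b) = true := by
  decide +kernel

theorem conj_ok : sameW xW (xP 1) 0 = true := by decide +kernel

theorem norm_ok : sameW (yW ++ xW) (xP 4 ++ yW) 0 = true ∧
    sameW (yW ++ yW) wU 2 = true := by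
  decide +kernel

theorem inv_ok : sameW (wH ++ wH) [] 2 = true ∧ sameW (wJ ++ wJ) [] 2 = true ∧
    sameW (wJ ++ wH) (wH ++ wJ) 2 = true ∧ sameW (wH ++ yW) (yW ++ wH) 2 = true := by
  decide +kernel

theorem seventh_ok : baseL.all (fun b => Nat.beq ((app yW)^[7] b) ((tab 0)^[2] (app wJ b))) = true := by
  decide +kernel

theorem moves_ok : ([wH, wJ, wH ++ wJ, wX].all fun w =>
    (List.range 4).all fun e => !Nat.beq (app w 0) ((tab 0)^[e] 0)) = true := by
  decide +kernel

theorem rel_one : baseL.all (fun b => Nat.beq ((app (relW 1 wH))^[12] b) b) = true := by decide +kernel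

theorem rel_other : ([(1, wH ++ wJ), (2, wH), (2, wH ++ wJ)].all fun p => (List.range 4).all fun e =>
    !Nat.beq ((app (relW p.1 p.2))^[12] 0) ((tab 0)^[e] 0)) = true := by
  decide +kernel

theorem gen_ok : sameW (spell threeW) [3] 0 = true ∧ sameW (spell fiveW) [5] 0 = true := by decide +kernel

theorem gen_small : threeW.all (fun c => decide (c < 10)) = true ∧ fiveW.all (fun c => decide (c < 12)) = true := by
  decide +kernel

theorem square_cases : ∀ m : Fin 29, m.val ≠ 0 → ∃ j : Fin 14, m.val * 4 ^ j.val % 29 = 1 ∨ m.val * 4 ^ j.val % 29 = 2 := by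
  decide +kernel

theorem shift_cases : ∀ s : Fin 29, ∃ t : Fin 29, (22 * t.val + 28 * t.val + s.val) % 29 = 0 := by decide +kernel

end Cfsg.Agent.RuOut
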