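import Cfsg.Agent.Lib.RuOut.Defs

/-!
Kernel check of the order 29 test on a range of short vectors.
-/

set_option autoImplicit false
set_option maxRecDepth 100000

namespace Cfsg.Agent.RuOut

open Cfsg.Agent.RuAut

theorem scanX3_ok : allB 5 (testOK wX rsX maskX sepX) 12180 4060 = true := by decide +kernel

end Cfsg.Agent.RuOut
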