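import Cfsg.Agent.Lib.RuOut.ScanX0
import Cfsg.Agent.Lib.RuOut.ScanX1
import Cfsg.Agent.Lib.RuOut.ScanX2
import Cfsg.Agent.Lib.RuOut.ScanX3
import Cfsg.Agent.Lib.RuOut.ScanU0
import Cfsg.Agent.Lib.RuOut.ScanU1
import Cfsg.Agent.Lib.RuOut.ScanU2
import Cfsg.Agent.Lib.RuOut.ScanU3

/-!
The two tests on all short vectors.
-/

set_option autoImplicit false

namespace Cfsg.Agent.RuOut

open Cfsg.Agent.RuAut

theorem scanX {y : ℕ} (hy : y < NV) : testOK wX rsX maskX sepX y = true := by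
  have hy' : y < 16240 := hy
  obtain h | h | h | h : y < 4060 ∨ (4060 ≤ y ∧ y < 8120) ∨ (8120 ≤ y ∧ y < 12180) ∨ 12180 ≤ y := by omega
  · exact allB_spec _ _ _ _ scanX0_ok y (by omega) (by omega)
  · exact allB_spec _ _ _ _ scanX1_ok y h.1 (by omega)
  · exact allB_spec _ _ _ _ scanX2_ok y h.1 (by omega)
  · exact allB_spec _ _ _ _ scanX3_ok y h (by omega)

theorem scanU {y : ℕ} (hy : y < NV) : testOK wU rsU maskU sepU y = true := by
  have hy' : y < 16240 := hy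
  obtain h | h | h | h : y < 4060 ∨ (4060 ≤ y ∧ y < 8120) ∨ (8120 ≤ y ∧ y < 12180) ∨ 12180 ≤ y := by omega
  · exact allB_spec _ _ _ _ scanU0_ok y (by omega) (by omega)
  · exact allB_spec _ _ _ _ scanU1_ok y h.1 (by omega)
  · exact allB_spec _ _ _ _ scanU2_ok y h.1 (by omega)
  · exact allB_spec _ _ _ _ scanU3_ok y h (by omega)

end Cfsg.Agent.RuOut
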