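import Cfsg.Agent.Lib.RuAut.Simple
import Cfsg.Agent.Lib.RuOut.Checks
import Cfsg.Agent.Lib.RuOut.Scanned

/-!
The centralisers of the elements of orders 29 and 7 in the automorphism group of the lattice.
-/

set_option autoImplicit false
set_option maxRecDepth 100000

noncomputable section

namespace Cfsg.Agent.RuOut

open Cfsg.Spor Cfsg.Agent.RuAut Cfsg.Agent.RuLattice Cfsg.Agent.CosetCert

theorem elem_lt {w : List ℕ} (h : (w.all fun a => decide (a < 12)) = true) : ∀ a ∈ w, a < 12 :=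
  fun a ha => of_decide_eq_true (List.all_eq_true.1 h a ha)

theorem smul_iter (g : fourRu) : ∀ (n : ℕ) (x : Fin NV), (g ^ n) • x = (fun z => g • z)^[n] x
  | 0, x => one_smul _ x
  | n + 1, x => by rw [pow_succ, mul_smul, smul_iter g n, Function.iterate_succ_apply]

theorem dre_smul (g : fourRu) (a b : Fin NV) : dre (g • a : Fin NV) (g • b : Fin NV) = dre a b := by
  have h : dotM (g • a : Fin NV) (g • b : Fin NV) = dotM a b := by
    rw [← dot_vM, ← dot_vM]
    show dot (L (g • a) : RuVec) (L (g • b) : RuVec) = dot (L a : RuVec) (L b : RuVec)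
    rw [L_smul, L_smul, smul_dot]
  rw [dre_eq, dre_eq, dotS_eq, dotS_eq, h]

theorem hit_smul (g : fourRu) (a b : Fin NV) (r : ℕ × ℕ) :
    hit (g • a : Fin NV) (g • b : Fin NV) r = hit a b r := by
  simp only [hit, force_eq]
  rw [dre_smul]
  congr 1
  have e : tab 0 (g • a : Fin NV).val = (g • turn a : Fin NV).val :=
    congrArg Fin.val (smul_turn g a).symm
  rw [e, dre_smul]
  rfl

theorem chain_smul {w : List ℕ} (hw : ∀ a ∈ w, a < 12) {g : fourRu} (hg : g * wd w = wd w * g) (q : Fin NV) :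
    ∀ (l : List (ℕ × ℕ)) (c : Fin NV),
      chain w (g • q : Fin NV).val l (g • c : Fin NV).val = chain w q.val l c.val
  | [], _ => rfl
  | r :: l, c => by
    simp only [chain, force_eq]
    have e : app w (g • c : Fin NV).val = (g • (⟨app w c, app_lt hw c.isLt⟩ : Fin NV) : Fin NV).val := by
      rw [← wd_idx hw c, ← mul_smul, hg, mul_smul, wd_idx hw]
    rw [e, hit_smul, chain_smul hw hg q l]

theorem sameP_smul {g : fourRu} : ∀ (S : List ℕ) (R : List (ℕ × ℕ)) (y : Fin NV),
    (∀ s ∈ S, ∃ h : s < NV, g • (⟨s, h⟩ : Fin NV) = ⟨s, h⟩) →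
    sameP S R (g • y : Fin NV).val = sameP S R y.val
  | [], _, _, _ => by simp [sameP]
  | _ :: _, [], _, _ => by simp [sameP]
  | s :: S, r :: R, y, h => by
    obtain ⟨hs, e⟩ := h s List.mem_cons_self
    simp only [sameP]
    rw [sameP_smul S R y fun t ht => h t (List.mem_cons_of_mem _ ht)]
    congr 1
    conv_lhs => rw [show s = (g • (⟨s, hs⟩ : Fin NV) : Fin NV).val from (congrArg Fin.val e).symm]
    exact hit_smul g ⟨s, hs⟩ y r

/-- An element fixing the orbit is trivial. -/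
theorem eq_one_of_orbit {w : List ℕ} {rs : List (ℕ × ℕ)} {m : ℕ} {orb : List ℕ}
    {sep : List (List ℕ × List (ℕ × ℕ) × ℕ)} (hscan : ∀ {y : ℕ}, y < NV → testOK w rs m sep y = true)
    (hsep : sepOKB orb sep = true) (hlen : sep.length = 5) {g : fourRu}
    (horb : ∀ s ∈ orb, ∃ h : s < NV, g • (⟨s, h⟩ : Fin NV) = ⟨s, h⟩) : g = 1 := by
  refine eq_one_of_fixes fun j hj => ?_
  induction j using Nat.strong_induction_on with
  | _ j ih =>
    have h := List.all_eq_true.1 hsep j (List.mem_range.2 hj)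
    simp only [Bool.and_eq_true] at h
    obtain ⟨⟨hb, hS⟩, hR⟩ := h
    set t := sep.getD j ([], [], 0) with ht
    have hfix : ∀ s ∈ t.1, ∃ h : s < NV, g • (⟨s, h⟩ : Fin NV) = ⟨s, h⟩ := fun s hs => by
      have hm := List.elem_iff.1 (List.all_eq_true.1 hS s hs)
      rcases List.mem_append.1 hm with hm | hm
      · exact horb s hm
      · obtain ⟨i, hi, e⟩ := List.mem_take_iff_getElem.1 hm
        subst e
        have hi' : i < j := lt_of_lt_of_le hi (min_le_left _ _)
        have hlt : i < baseL.length := lt_of_lt_of_le hi (min_le_right _ _)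
        have eb : (baseI i).val = baseL[i] := List.getD_eq_getElem _ _ hlt
        refine ⟨eb ▸ (baseI i).isLt, ?_⟩
        have e2 : (⟨baseL[i], eb ▸ (baseI i).isLt⟩ : Fin NV) = baseI i := Fin.ext eb.symm
        rw [e2, ih i hi' (by omega)]
    have he : t.2.2 = (baseI j).val := Nat.eq_of_beq_eq_true hb
    have hsame : sameP t.1 t.2.1 (g • baseI j : Fin NV).val = true := by
      rw [sameP_smul _ _ _ hfix, ← he, hR]
    have hmem : t ∈ sep := by
      rw [ht, List.getD_eq_getElem _ _ (show j < sep.length by omega)]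
      exact List.getElem_mem _
    have h2 := hscan (g • baseI j : Fin NV).isLt
    simp only [testOK, Bool.and_eq_true, List.all_eq_true] at h2
    have h3 := h2.2 t hmem
    rw [sepB, hsame, Bool.not_true, Bool.false_or] at h3
    exact Fin.ext ((Nat.eq_of_beq_eq_true h3).trans he)

theorem orbit_fixed {w : List ℕ} (hw : ∀ a ∈ w, a < 12) {g : fourRu} (hg : g * wd w = wd w * g) {q : Fin NV}
    (hq : g • q = q) {orb : List ℕ} {n : ℕ}
    (horb : orb = (List.range n).map fun i => (app w)^[i] q.val) :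
    ∀ s ∈ orb, ∃ h : s < NV, g • (⟨s, h⟩ : Fin NV) = ⟨s, h⟩ := by
  intro s hs
  rw [horb] at hs
  obtain ⟨i, -, rfl⟩ := List.mem_map.1 hs
  have e : ((wd w ^ i) • q : Fin NV).val = (app w)^[i] q.val := wd_pow_val hw q i
  refine ⟨e ▸ Fin.isLt _, ?_⟩
  have e2 : (⟨(app w)^[i] q.val, e ▸ Fin.isLt _⟩ : Fin NV) = (wd w ^ i) • q := Fin.ext e.symm
  rw [e2, ← mul_smul, ((Commute.pow_right (show Commute g (wd w) from hg) i)).eq, mul_smul, hq]

/-- An element commuting with the word is one of the candidates. -/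
theorem classify {w : List ℕ} (hw : ∀ a ∈ w, a < 12) {rs : List (ℕ × ℕ)} {m : ℕ} {orb : List ℕ}
    {sep : List (List ℕ × List (ℕ × ℕ) × ℕ)} (hscan : ∀ {y : ℕ}, y < NV → testOK w rs m sep y = true)
    (hsep : sepOKB orb sep = true) (hlen : sep.length = 5) {q : Fin NV} (hstart : chain w q.val rs q.val = true)
    {n : ℕ} (horb : orb = (List.range n).map fun i => (app w)^[i] q.val)
    {cand : ℕ → ℕ} {N d : ℕ} (hcand : orB d (fun k => 1 <<< cand k) 0 N = m) (el : ℕ → fourRu)
    (hel : ∀ k, el k * wd w = wd w * el k) (heq : ∀ k, ((el k) • q : Fin NV).val = cand k)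
    {g : fourRu} (hg : g * wd w = wd w * g) : ∃ k < N, g = el k := by
  have h1 := hscan (g • q : Fin NV).isLt
  simp only [testOK, Bool.and_eq_true, Bool.or_eq_true] at h1
  rw [chain_smul hw hg q rs q, hstart] at h1
  have hh : has m (g • q : Fin NV).val = true := by simpa using h1.1
  rw [has_eq, ← hcand, testBit_orB] at hh
  obtain ⟨k, -, hk, hb⟩ := hh
  rw [Nat.shiftLeft_eq, Nat.one_mul, Nat.testBit_two_pow] at hb
  have hgq : g • q = el k • q := Fin.ext (by rw [heq]; exact (of_decide_eq_true hb).symm)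
  refine ⟨k, by omega, ?_⟩
  have hc : (el k)⁻¹ * g * wd w = wd w * ((el k)⁻¹ * g) :=
    (Commute.mul_left (Commute.inv_left (show Commute (el k) (wd w) from hel k)) hg).eq
  have h0 : ((el k)⁻¹ * g) • q = q := by rw [mul_smul, hgq, inv_smul_smul]
  exact (inv_mul_eq_one.1 (eq_one_of_orbit hscan hsep hlen (orbit_fixed hw hc h0 horb))).symm

theorem sameW_spec {u v : List ℕ} {e : ℕ} (hu : ∀ a ∈ u, a < 12) (hv : ∀ a ∈ v, a < 12)
    (h : sameW u v e = true) : wd u = iElt ^ e * wd v := by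
  refine eq_of_base fun j hj => Fin.ext ?_
  rw [mul_smul, iElt_pow_val, wd_idx hu, wd_idx hv]
  have hlt : j < baseL.length := by rw [small_lists.2.2.1]; exact hj
  have := List.all_eq_true.1 h (baseI j).val (by
    show baseL.getD j 0 ∈ baseL
    rw [List.getD_eq_getElem _ _ hlt]; exact List.getElem_mem _)
  exact Nat.eq_of_beq_eq_true this

theorem all_base {f : ℕ → Bool} (h : baseL.all f = true) {j : ℕ} (hj : j < 5) : f (baseI j).val = true := by
  refine List.all_eq_true.1 h _ ?_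
  show baseL.getD j 0 ∈ baseL
  rw [List.getD_eq_getElem _ _ (by rw [small_lists.2.2.1]; exact hj)]
  exact List.getElem_mem _

theorem words_lt {w : List ℕ} (h : w ∈ [wX, wU, wH, wJ, hW, xW, yW] ++ named) : ∀ a ∈ w, a < 12 :=
  elem_lt (List.all_eq_true.1 letters_ok w h)

theorem wX_lt : ∀ a ∈ wX, a < 12 := words_lt (by simp)
theorem wU_lt : ∀ a ∈ wU, a < 12 := words_lt (by simp)
theorem wH_lt : ∀ a ∈ wH, a < 12 := words_lt (by simp)
theorem wJ_lt : ∀ a ∈ wJ, a < 12 := words_lt (by simp)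

theorem app_lt' {u v : List ℕ} (hu : ∀ a ∈ u, a < 12) (hv : ∀ a ∈ v, a < 12) : ∀ a ∈ u ++ v, a < 12 :=
  fun a ha => (List.mem_append.1 ha).elim (hu a) (hv a)

theorem wd_comm {u v : List ℕ} (hu : ∀ a ∈ u, a < 12) (hv : ∀ a ∈ v, a < 12)
    (h : sameW (u ++ v) (v ++ u) 0 = true) : Commute (wd u) (wd v) := by
  have := sameW_spec (app_lt' hu hv) (app_lt' hv hu) h
  rwa [pow_zero, one_mul, wd_append, wd_append] at this

theorem centralX {g : fourRu} (hg : g * wd wX = wd wX * g) : ∃ e s : ℕ, g = iElt ^ e * wd wX ^ s := by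
  obtain ⟨k, -, hk⟩ := classify (q := (⟨0, show 0 < 16240 by norm_num⟩ : Fin NV)) (cand := candX) wX_lt
    (fun hy => scanX hy) sep_ok.1 sep_ok.2.2.1 chain_start.1 orb_eq.1 cand_ok.1
    (fun k => iElt ^ (k % 4) * wd wX ^ (k / 4))
    (fun k => (Commute.mul_left ((Subgroup.mem_center_iff.1 (pow_mem iElt_central _) _).symm)
      ((Commute.refl (wd wX)).pow_left _)).eq)
    (fun k => by rw [mul_smul, iElt_pow_val, wd_pow_val wX_lt]; rfl) hg
  exact ⟨_, _, hk⟩

theorem centralU {g : fourRu} (hg : g * wd wU = wd wU * g) :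
    ∃ e a b c : ℕ, g = iElt ^ e * (wd wU ^ a * (wd wH ^ b * wd wJ ^ c)) := by
  obtain ⟨k, -, hk⟩ := classify (q := (⟨qU, show 576 < 16240 by norm_num⟩ : Fin NV)) (cand := candU) wU_lt
    (fun hy => scanU hy) sep_ok.2.1 sep_ok.2.2.2 chain_start.2 orb_eq.2 cand_ok.2
    (fun k => iElt ^ (k % 4) * (wd wU ^ (k / 4 % 7) * (wd wH ^ (k / 28 % 2) * wd wJ ^ (k / 56 % 2))))
    (fun k => (Commute.mul_left ((Subgroup.mem_center_iff.1 (pow_mem iElt_central _) _).symm)
      (Commute.mul_left ((Commute.refl (wd wU)).pow_left _)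
        (Commute.mul_left ((wd_comm wH_lt wU_lt comm_ok.1).pow_left _)
          ((wd_comm wJ_lt wU_lt comm_ok.2).pow_left _)))).eq)
    (fun k => by
      rw [mul_smul, mul_smul, mul_smul, iElt_pow_val, wd_pow_val wU_lt, wd_pow_val wH_lt, wd_pow_val wJ_lt]
      rfl) hg
  exact ⟨_, _, _, _, hk⟩

end Cfsg.Agent.RuOut
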