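import Cfsg.Agent.Lib.RuAut.LatDefs
import Cfsg.Agent.Lib.RuOut.Data

/-!
The tests which single out the centralisers of two elements of orders 29 and 7 in the Rudvalis group.
-/

set_option autoImplicit false

noncomputable section

namespace Cfsg.Agent.RuOut

open Cfsg.Agent.RuAut

/-- A shifted inner product of two short vectors. -/
def dre (a b : ℕ) : ℕ :=
  cond (Nat.blt a 112 || Nat.blt b 112) ((dotS a b + 64).toNat)
    (force (code a) fun A => force (code b) fun B => force (loP A &&& loP B) fun C =>
      64 + pop C - 2 * pop (C &&& (hiP A ^^^ hiP B)))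

theorem dre_eq (a b : ℕ) : dre a b = (dotS a b + 64).toNat := by
  rw [dre]
  simp only [force_eq, dotS]
  cases Nat.blt a 112 <;> cases Nat.blt b 112 <;> simp only [cond_true, cond_false, Bool.or_self,
    Bool.or_true, Bool.true_or, Bool.false_or, Bool.or_false]
  omega

/-- Both inner products of two short vectors are as given. -/
def hit (a b : ℕ) (r : ℕ × ℕ) : Bool :=
  Nat.beq (dre a b) r.1 && force (tab 0 a) fun a' => Nat.beq (dre a' b) r.2

/-- Inner products along an orbit of a word. -/
def chain (w : List ℕ) (y : ℕ) : List (ℕ × ℕ) → ℕ → Bool
  | [], _ => true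
  | r :: l, c => force (app w c) fun z => hit y z r && chain w y l z

/-- Inner products with a list of vectors. -/
def sameP : List ℕ → List (ℕ × ℕ) → ℕ → Bool
  | s :: S, r :: R, y => hit s y r && sameP S R y
  | _, _, _ => true

/-- A vector with the right inner products is the base vector. -/
def sepB (t : List ℕ × List (ℕ × ℕ) × ℕ) (y : ℕ) : Bool := !(sameP t.1 t.2.1 y) || Nat.beq y t.2.2

/-- The test at one vector. -/
def testOK (w : List ℕ) (rs : List (ℕ × ℕ)) (m : ℕ) (sep : List (List ℕ × List (ℕ × ℕ) × ℕ)) (y : ℕ) : Bool :=
  (!(chain w y rs y) || has m y) && sep.all fun t => sepB t y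

/-- The word of the element of order 29. -/
def wX : List ℕ := [4, 11]

/-- The word of the element of order 7. -/
def wU : List ℕ := [4]

/-- An involution commuting with the element of order 7. -/
def wH : List ℕ := [1]

/-- Another one. -/
def wJ : List ℕ := [2, 1]

/-- The starting vector for the element of order 7. -/
def qU : ℕ := 576

/-- The images of the starting vector under the centraliser of the element of order 29. -/
def candX (k : ℕ) : ℕ := (tab 0)^[k % 4] ((app wX)^[k / 4] 0)

/-- The images of the starting vector under the centraliser of the element of order 7. -/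
def candU (k : ℕ) : ℕ :=
  (tab 0)^[k % 4] ((app wU)^[k / 4 % 7] ((app wH)^[k / 28 % 2] ((app wJ)^[k / 56 % 2] qU)))

/-- The inverse word. -/
def winv (w : List ℕ) : List ℕ := (w.map fun a => if a < 6 then a + 6 else a - 6).reverse

/-- The named elements. -/
def named : List (List ℕ) :=
  [[1], [2], [4], [10], xW, winv xW, yW, winv yW, [7], [8], [3], [9]]

/-- A word in the named elements as a word in the letters. -/
def spell (l : List ℕ) : List ℕ := l.flatMap fun c => named.getD c []

/-- A power of the element of order 29 as a word. -/
def xP (m : ℕ) : List ℕ := hW ++ ((List.replicate m wX).flatten ++ winv hW)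

/-- The word whose twelfth power is tested. -/
def relW (m : ℕ) (h : List ℕ) : List ℕ := xP m ++ h ++ (xP (4 * m) ++ h)

/-- Two words agree on the base up to a scalar. -/
def sameW (u v : List ℕ) (e : ℕ) : Bool :=
  baseL.all fun b => Nat.beq (app u b) ((tab 0)^[e] (app v b))

end Cfsg.Agent.RuOut
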