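import Cfsg.Agent.Lib.RuOut.Central
import Cfsg.Agent.Lib.LeechAut.Crit23
import Cfsg.Prelude.Def_KGroupFacts

/-!
Every automorphism of the Rudvalis group is inner.  An automorphism may be moved to one fixing a generator of a
subgroup of order 29 up to a power and fixing an element of order 14 normalising it; the image of an involution
commuting with the latter is then one of two, and a single relation leaves only the identity.
-/

set_option autoImplicit false
set_option maxRecDepth 100000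

noncomputable section

namespace Cfsg.Agent.RuOut

open Cfsg.Spor Cfsg.Agent.RuAut Cfsg.Agent.RuLattice Cfsg.Agent.CosetCert

instance finiteRu : Finite Ru := Nat.finite_of_card_ne_zero (by rw [card_Ru]; norm_num)

/-- The projection on the simple group. -/
def prj : fourRu →* Ru := QuotientGroup.mk' (Subgroup.center fourRu)

/-- An element of the simple group given by a word. -/
def el (w : List ℕ) : Ru := prj (wd w)

theorem prj_iElt (e : ℕ) : prj (iElt ^ e) = 1 :=
  (QuotientGroup.eq_one_iff _).2 (pow_mem iElt_central _)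

theorem el_append (u v : List ℕ) : el (u ++ v) = el u * el v := by rw [el, wd_append, map_mul]; rfl

theorem el_nil : el [] = 1 := map_one prj

theorem el_eq {u v : List ℕ} {e : ℕ} (hu : ∀ a ∈ u, a < 12) (hv : ∀ a ∈ v, a < 12)
    (h : sameW u v e = true) : el u = el v := by
  rw [el, sameW_spec hu hv h, map_mul, prj_iElt, one_mul]; rfl

theorem letter_inv {a : ℕ} (ha : a < 12) : letter (if a < 6 then a + 6 else a - 6) = (letter a)⁻¹ := by
  by_cases h : a < 6
  · rw [if_pos h, letter, dif_neg (by omega), dif_pos (by omega), letter, dif_pos h]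
    simp only [Nat.add_sub_cancel]
  · rw [if_neg h, letter, dif_pos (by omega), letter, dif_neg h, dif_pos (by omega), inv_inv]

theorem winv_lt {w : List ℕ} (hw : ∀ a ∈ w, a < 12) : ∀ a ∈ winv w, a < 12 := by
  intro a ha
  rw [winv, List.mem_reverse, List.mem_map] at ha
  obtain ⟨b, hb, rfl⟩ := ha
  have := hw b hb
  split_ifs <;> omega

theorem el_winv : ∀ {w : List ℕ}, (∀ a ∈ w, a < 12) → el (winv w) = (el w)⁻¹
  | [], _ => by rw [show winv [] = [] from rfl, el_nil, inv_one]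
  | a :: w, hw => by
    have e : winv (a :: w) = winv w ++ [if a < 6 then a + 6 else a - 6] := by simp [winv]
    rw [e, el_append, el_winv fun b hb => hw b (List.mem_cons_of_mem _ hb),
      show el (a :: w) = el [a] * el w from el_append [a] w, mul_inv_rev]
    congr 1
    rw [el, el, wd, wd]
    simp only [List.map_cons, List.map_nil, List.prod_cons, List.prod_nil, mul_one]
    rw [letter_inv (hw a List.mem_cons_self), map_inv]

theorem rep_lt {w : List ℕ} (hw : ∀ a ∈ w, a < 12) (n : ℕ) : ∀ a ∈ (List.replicate n w).flatten, a < 12 := by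
  intro a ha
  obtain ⟨l, hl, hal⟩ := List.mem_flatten.1 ha
  rw [List.eq_of_mem_replicate hl] at hal
  exact hw a hal

theorem el_rep (w : List ℕ) : ∀ n, el (List.replicate n w).flatten = el w ^ n
  | 0 => by simp [el_nil]
  | n + 1 => by rw [List.replicate_succ, List.flatten_cons, el_append, el_rep w n, pow_succ']

theorem hW_lt : ∀ a ∈ hW, a < 12 := words_lt (by simp)
theorem xW_lt : ∀ a ∈ xW, a < 12 := words_lt (by simp)
theorem yW_lt : ∀ a ∈ yW, a < 12 := words_lt (by simp)

theorem xP_lt (m : ℕ) : ∀ a ∈ xP m, a < 12 := app_lt' hW_lt (app_lt' (rep_lt wX_lt m) (winv_lt hW_lt))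

theorem el_xP (m : ℕ) : el (xP m) = el hW * el wX ^ m * (el hW)⁻¹ := by
  rw [xP, el_append, el_append, el_rep, el_winv hW_lt, mul_assoc]

/-- The element of order 29. -/
def gX : Ru := el xW

/-- The element normalising its group. -/
def gY : Ru := el yW

/-- The involution. -/
def gH : Ru := el wH

/-- The other involution. -/
def gJ : Ru := el wJ

/-- The element of order 7. -/
def gU : Ru := el wU

theorem gX_eq : gX = el hW * el wX * (el hW)⁻¹ := by
  rw [gX, el_eq xW_lt (xP_lt 1) conj_ok, el_xP, pow_one]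

theorem gX_pow (m : ℕ) : gX ^ m = el (xP m) := by rw [gX_eq, conj_pow, el_xP]

theorem wX_pow : wd wX ^ 29 = 1 := eq_of_base fun j hj => Fin.ext <| by
  have := all_base pow_ok hj
  simp only [Bool.and_eq_true] at this
  rw [wd_pow_val wX_lt, one_smul]
  exact Nat.eq_of_beq_eq_true this.1

theorem wU_pow : wd wU ^ 7 = 1 := eq_of_base fun j hj => Fin.ext <| by
  have := all_base pow_ok hj
  simp only [Bool.and_eq_true] at this
  rw [wd_pow_val wU_lt, one_smul]
  exact Nat.eq_of_beq_eq_true this.2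

theorem el_pow_scalar {w v : List ℕ} (hw : ∀ a ∈ w, a < 12) (hv : ∀ a ∈ v, a < 12) {n e : ℕ}
    (h : baseL.all (fun b => Nat.beq ((app w)^[n] b) ((tab 0)^[e] (app v b))) = true) : el w ^ n = el v := by
  have : wd w ^ n = iElt ^ e * wd v := eq_of_base fun j hj => Fin.ext <| by
    rw [wd_pow_val hw, mul_smul, iElt_pow_val, wd_idx hv]
    exact Nat.eq_of_beq_eq_true (all_base h hj)
  rw [el, ← map_pow, this, map_mul, prj_iElt, one_mul]; rfl

theorem pow_ne_one_of {w : List ℕ} (hw : ∀ a ∈ w, a < 12) {n : ℕ}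
    (h : ((List.range 4).all fun e => !Nat.beq ((app w)^[n] 0) ((tab 0)^[e] 0)) = true) : el w ^ n ≠ 1 := by
  intro h1
  rw [el, ← map_pow] at h1
  obtain ⟨e, he⟩ := center_eq_powers ((QuotientGroup.eq_one_iff _).1 h1)
  have h2 := List.all_eq_true.1 h e.val (List.mem_range.2 e.isLt)
  have e2 := congrArg (fun g : fourRu => (g • baseI 0 : Fin NV).val) he
  simp only [wd_pow_val hw, iElt_pow_val, baseI_zero] at e2
  rw [e2, Nat.beq_refl] at h2
  exact Bool.noConfusion h2

theorem el_ne_one {w : List ℕ} (hw : ∀ a ∈ w, a < 12) (h : w ∈ [wH, wJ, wH ++ wJ, wX]) : el w ≠ 1 := by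
  have := pow_ne_one_of hw (n := 1) (List.all_eq_true.1 moves_ok w h)
  rwa [pow_one] at this

theorem gX_29 : gX ^ 29 = 1 := by
  have h : el wX ^ 29 = 1 := by rw [el, ← map_pow, wX_pow, map_one]
  rw [gX_eq, conj_pow, h, mul_one, mul_inv_cancel]

theorem order_X : orderOf gX = 29 := by
  haveI : Fact (Nat.Prime 29) := ⟨by norm_num⟩
  refine orderOf_eq_prime gX_29 ?_
  rw [gX_eq, Ne, conj_eq_one_iff]
  exact el_ne_one wX_lt (by simp)

theorem rel_YX : gY * gX * gY⁻¹ = gX ^ 4 := by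
  rw [mul_inv_eq_iff_eq_mul]
  have := el_eq (app_lt' yW_lt xW_lt) (app_lt' (xP_lt 4) yW_lt) norm_ok.1
  rwa [el_append, el_append, ← gX_pow] at this

theorem rel_YY : gY * gY = gU := by
  have := el_eq (app_lt' yW_lt yW_lt) wU_lt norm_ok.2
  rwa [el_append] at this

theorem rel_HH : gH * gH = 1 := by
  have := el_eq (app_lt' wH_lt wH_lt) (fun a ha => absurd ha (by simp)) inv_ok.1
  rwa [el_append, el_nil] at this

theorem rel_JJ : gJ * gJ = 1 := by
  have := el_eq (app_lt' wJ_lt wJ_lt) (fun a ha => absurd ha (by simp)) inv_ok.2.1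
  rwa [el_append, el_nil] at this

theorem rel_HJ : Commute gH gJ := by
  have := el_eq (app_lt' wJ_lt wH_lt) (app_lt' wH_lt wJ_lt) inv_ok.2.2.1
  rw [el_append, el_append] at this
  exact this.symm

theorem rel_HY : Commute gH gY := by
  have := el_eq (app_lt' wH_lt yW_lt) (app_lt' yW_lt wH_lt) inv_ok.2.2.2
  rwa [el_append, el_append] at this

theorem rel_HU : Commute gH gU := by rw [← rel_YY]; exact rel_HY.mul_right rel_HY

theorem rel_Y7 : gY ^ 7 = gJ := el_pow_scalar yW_lt wJ_lt seventh_ok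

theorem rel_UJ : Commute gU gJ := by
  rw [← rel_Y7, ← rel_YY]
  exact ((Commute.refl gY).mul_left (Commute.refl gY)).pow_right 7

theorem gU_7 : gU ^ 7 = 1 := by rw [gU, el, ← map_pow, wU_pow, map_one]

theorem lift_commute {w : List ℕ} {n : ℕ} (hn : wd w ^ n = 1) (h2 : Nat.Coprime n 4) {g : fourRu}
    (h : Commute (prj g) (el w)) : g * wd w = wd w * g := by
  have hz : (wd w)⁻¹ * (g * wd w * g⁻¹) ∈ Subgroup.center fourRu := by
    refine (QuotientGroup.eq_one_iff _).1 ?_
    show prj ((wd w)⁻¹ * (g * wd w * g⁻¹)) = 1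
    rw [map_mul, map_mul, map_mul, map_inv, map_inv]
    show (el w)⁻¹ * (prj g * el w * (prj g)⁻¹) = 1
    rw [h.eq, mul_inv_cancel_right, inv_mul_cancel]
  set z := (wd w)⁻¹ * (g * wd w * g⁻¹) with hz'
  have e : g * wd w * g⁻¹ = wd w * z := by rw [hz']; group
  have hc : Commute (wd w) z := Subgroup.mem_center_iff.1 hz (wd w)
  have hzn : z ^ n = 1 := by
    have := congrArg (fun t => t ^ n) e
    simpa only [conj_pow, hn, mul_one, mul_inv_cancel, hc.mul_pow, one_mul, eq_comm] using this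
  have hz4 : z ^ 4 = 1 := by
    obtain ⟨k, hk⟩ := center_eq_powers hz
    rw [hk, ← pow_mul, mul_comm, pow_mul, iElt_pow_four, one_pow]
  have hz1 : z = 1 := by
    have := pow_gcd_eq_one.2 ⟨hzn, hz4⟩
    rwa [Nat.Coprime.gcd_eq_one h2, pow_one] at this
  rw [hz1, mul_one, mul_inv_eq_iff_eq_mul] at e
  exact e

theorem cent_X {a : Ru} (h : Commute a gX) : ∃ s : ℕ, a = gX ^ s := by
  set c := el hW with hc
  obtain ⟨g, hg⟩ := QuotientGroup.mk'_surjective (Subgroup.center fourRu) (c⁻¹ * a * c)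
  have h0 : Commute (prj g) (el wX) := by
    rw [show prj g = c⁻¹ * a * c from hg]
    have h' := h
    rw [gX_eq, ← hc] at h'
    have := congrArg (fun t => c⁻¹ * t * c) h'.eq
    simpa only [Commute, SemiconjBy, mul_assoc, inv_mul_cancel, mul_one, inv_mul_cancel_left] using this
  obtain ⟨e, s, rfl⟩ := centralX (lift_commute wX_pow (by norm_num) h0)
  refine ⟨s, ?_⟩
  have h1 : c⁻¹ * a * c = el wX ^ s := by
    rw [← hg]
    show prj (iElt ^ e * wd wX ^ s) = _
    rw [map_mul, prj_iElt, one_mul, map_pow]; rfl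
  rw [gX_eq, conj_pow, ← hc, ← h1]
  group

theorem cent_U {a : Ru} (h : Commute a gU) : ∃ i j k : ℕ, a = gU ^ i * (gH ^ j * gJ ^ k) := by
  obtain ⟨g, rfl⟩ := QuotientGroup.mk'_surjective (Subgroup.center fourRu) a
  obtain ⟨e, i, j, k, rfl⟩ := centralU (lift_commute wU_pow (by norm_num) h)
  refine ⟨i, j, k, ?_⟩
  show prj _ = _
  rw [map_mul, prj_iElt, one_mul, map_mul, map_mul, map_pow, map_pow, map_pow]; rfl

theorem pow_two_cases {t : Ru} (h : t * t = 1) (n : ℕ) : t ^ n = 1 ∨ t ^ n = t := by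
  rcases Nat.even_or_odd' n with ⟨k, rfl | rfl⟩
  · left; rw [pow_mul, pow_two, h, one_pow]
  · right; rw [pow_add, pow_mul, pow_two, h, one_pow, one_mul, pow_one]

/-- The involutions commuting with the element of order 7. -/
theorem invol_cent {a : Ru} (h : Commute a gU) (h2 : a * a = 1) :
    a = 1 ∨ a = gH ∨ a = gJ ∨ a = gH * gJ := by
  obtain ⟨i, j, k, rfl⟩ := cent_U h
  have hv : (gH ^ j * gJ ^ k) * (gH ^ j * gJ ^ k) = 1 := by
    rw [(rel_HJ.symm.pow_pow k j).mul_mul_mul_comm, ← pow_add, ← pow_add, ← two_mul, ← two_mul, pow_mul, pow_mul,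
      pow_two, pow_two, rel_HH, rel_JJ, one_pow, one_pow, one_mul]
  have hu : gU ^ i = 1 := by
    have hc : Commute (gU ^ i) (gH ^ j * gJ ^ k) :=
      ((rel_HU.symm.pow_right j).mul_right (rel_UJ.pow_right k)).pow_left i
    have h' : gU ^ i * gU ^ i = 1 := by
      have := h2
      rwa [hc.symm.mul_mul_mul_comm, hv, mul_one] at this
    rw [← pow_add] at h'
    have h7 : (gU ^ i) ^ 7 = 1 := by rw [← pow_mul, mul_comm, pow_mul, gU_7, one_pow]
    have h2' : (gU ^ i) ^ 2 = 1 := by rw [← pow_mul, mul_two]; exact h'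
    have := pow_gcd_eq_one.2 ⟨h7, h2'⟩
    rwa [show Nat.gcd 7 2 = 1 from rfl, pow_one] at this
  rw [hu, one_mul]
  rcases pow_two_cases rel_HH j with e | e <;> rcases pow_two_cases rel_JJ k with e' | e' <;>
    simp [e, e']

theorem mem_closure_word {K : Subgroup Ru} {m : ℕ} (hK : ∀ c < m, el (named.getD c []) ∈ K) :
    ∀ l : List ℕ, l.all (fun c => decide (c < m)) = true → el (spell l) ∈ K
  | [], _ => by rw [show spell [] = [] from rfl, el_nil]; exact K.one_mem
  | c :: l, h => by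
    simp only [List.all_cons, Bool.and_eq_true, decide_eq_true_eq] at h
    rw [show spell (c :: l) = named.getD c [] ++ spell l from rfl, el_append]
    exact K.mul_mem (hK c h.1) (mem_closure_word hK l h.2)

theorem spell_lt : ∀ l : List ℕ, ∀ a ∈ spell l, a < 12 := by
  intro l a ha
  obtain ⟨c, -, hc⟩ := List.mem_flatMap.1 ha
  by_cases h : c < named.length
  · rw [List.getD_eq_getElem _ _ h] at hc
    exact words_lt (List.mem_append_right _ (List.getElem_mem h)) a hc
  · rw [List.getD_eq_default _ _ (not_lt.1 h)] at hc; simp at hc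

/-- The three elements generate. -/
theorem generate {K : Subgroup Ru} (hX : gX ∈ K) (hY : gY ∈ K) (hH : gH ∈ K) : K = ⊤ := by
  have hJ : gJ ∈ K := rel_Y7 ▸ K.pow_mem hY 7
  have hU : gU ∈ K := rel_YY ▸ K.mul_mem hY hY
  have h1 : el [1] ∈ K := hH
  have h2 : el [2] ∈ K := by
    have e : gJ = el [2] * el [1] := el_append [2] [1]
    rw [show el [2] = gJ * (el [1])⁻¹ by rw [e, mul_inv_cancel_right]]
    exact K.mul_mem hJ (K.inv_mem h1)
  have hinv : ∀ w : List ℕ, (∀ a ∈ w, a < 12) → el w ∈ K → el (winv w) ∈ K := fun w hw hm => by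
    rw [el_winv hw]; exact K.inv_mem hm
  have hsmall : ∀ c < 10, el (named.getD c []) ∈ K := by
    intro c hc
    interval_cases c
    · exact h1
    · exact h2
    · exact hU
    · exact hinv wU wU_lt hU
    · exact hX
    · exact hinv xW xW_lt hX
    · exact hY
    · exact hinv yW yW_lt hY
    · exact hinv [1] wH_lt h1
    · exact hinv [2] (by simp) h2
  have h3 : el [3] ∈ K := by
    rw [← el_eq (spell_lt _) (by simp) gen_ok.1]
    exact mem_closure_word hsmall _ gen_small.1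
  have hall : ∀ c < 12, el (named.getD c []) ∈ K := by
    intro c hc
    by_cases h : c < 10
    · exact hsmall c h
    · interval_cases c
      · exact h3
      · exact hinv [3] (by simp) h3
  have h5 : el [5] ∈ K := by
    rw [← el_eq (spell_lt _) (by simp) gen_ok.2]
    exact mem_closure_word hall _ gen_small.2
  rw [eq_top_iff, ← Subgroup.map_top_of_surjective prj (QuotientGroup.mk'_surjective _), ← letters_eq_top, letters,
    MonoidHom.map_closure, Subgroup.closure_le]
  rintro _ ⟨_, ⟨a, rfl⟩, rfl⟩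
  show prj (gen6 a) ∈ K
  have e : el [a.val] = prj (gen6 a) := by simp [el, wd, letter]
  fin_cases a
  · show prj iElt ∈ K
    rw [← pow_one iElt, prj_iElt]; exact K.one_mem
  · exact e ▸ h1
  · exact e ▸ h2
  · exact e ▸ h3
  · exact e ▸ hU
  · exact e ▸ h5

theorem rel12 (m : ℕ) {w : List ℕ} :
    (gX ^ m * el w * (gX ^ (4 * m) * el w)) ^ 12 = el (relW m w) ^ 12 := by
  rw [relW, el_append, el_append, el_append, gX_pow, gX_pow]

theorem relW_lt (m : ℕ) {w : List ℕ} (hw : ∀ a ∈ w, a < 12) : ∀ a ∈ relW m w, a < 12 :=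
  app_lt' (app_lt' (xP_lt m) hw) (app_lt' (xP_lt _) hw)

theorem relation : (gX ^ 1 * gH * (gX ^ (4 * 1) * gH)) ^ 12 = 1 := by
  rw [gH, rel12]
  have : wd (relW 1 wH) ^ 12 = 1 := eq_of_base fun j hj => Fin.ext <| by
    rw [wd_pow_val (relW_lt 1 wH_lt), one_smul]
    exact Nat.eq_of_beq_eq_true (all_base rel_one hj)
  rw [el, ← map_pow, this, map_one]

theorem other {m : ℕ} {w : List ℕ} (hw : ∀ a ∈ w, a < 12)
    (h : (m, w) ∈ [(1, wH ++ wJ), (2, wH), (2, wH ++ wJ)]) :
    (gX ^ m * el w * (gX ^ (4 * m) * el w)) ^ 12 ≠ 1 := by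
  rw [rel12]
  exact pow_ne_one_of (relW_lt m hw) (List.all_eq_true.1 rel_other (m, w) h)

theorem Y_pow_X : ∀ (j k : ℕ), gY ^ j * gX ^ k * (gY ^ j)⁻¹ = gX ^ (k * 4 ^ j)
  | 0, k => by simp
  | j + 1, k => by
    rw [pow_succ, show gY ^ j * gY * gX ^ k * (gY ^ j * gY)⁻¹ = gY ^ j * (gY * gX ^ k * gY⁻¹) * (gY ^ j)⁻¹ by group,
      ← conj_pow, rel_YX, ← pow_mul, Y_pow_X j, pow_succ]
    congr 1; ring

theorem X_pow_Y (t : ℕ) : gX ^ t * gY = gY * gX ^ (22 * t) := by
  have h := Y_pow_X 1 (22 * t)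
  rw [pow_one, mul_inv_eq_iff_eq_mul] at h
  rw [h]
  congr 1
  rw [pow_one, pow_eq_pow_iff_modEq, order_X, Nat.ModEq]
  omega

/-- An automorphism, moved to one fixing the element of order 14. -/
theorem normalise (φ : MulAut Ru) : ∃ g : Ru, ∃ m : ℕ, (m = 1 ∨ m = 2) ∧
    (MulAut.conj g * φ) gX = gX ^ m ∧ (MulAut.conj g * φ) gY = gY := by
  haveI : Fact (Nat.Prime 29) := ⟨by norm_num⟩
  have hd : ¬ 29 ^ 2 ∣ Nat.card Ru := by rw [card_Ru]; norm_num
  have hf := Cfsg.Agent.LeechAut.Crit23.fact_one (H := Ru) (show Nat.Prime 29 by norm_num) hd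
    (order_X ▸ orderOf_dvd_natCard gX)
  have hox : orderOf (φ gX) = 29 := by rw [MulEquiv.orderOf_eq, order_X]
  let A : Sylow 29 Ru := Sylow.ofCard (Subgroup.zpowers (φ gX)) (by rw [Nat.card_zpowers, hox, hf]; rfl)
  let B : Sylow 29 Ru := Sylow.ofCard (Subgroup.zpowers gX) (by rw [Nat.card_zpowers, order_X, hf]; rfl)
  obtain ⟨h, e⟩ := MulAction.exists_smul_eq Ru A B
  set α : MulAut Ru := MulAut.conj h * φ with hα
  have hm : α gX ∈ Subgroup.zpowers gX := by
    have : α gX ∈ ((h • A : Sylow 29 Ru) : Subgroup Ru) := by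
      rw [Sylow.coe_subgroup_smul, Subgroup.mem_smul_pointwise_iff_exists]
      exact ⟨φ gX, Subgroup.mem_zpowers _, rfl⟩
    rwa [e] at this
  obtain ⟨m₀, hm₀⟩ := mem_powers_iff_mem_zpowers.2 hm
  replace hm₀ : gX ^ m₀ = α gX := hm₀
  set m := m₀ % 29 with hmdef
  have hαX : α gX = gX ^ m := by
    rw [← hm₀, hmdef]; exact (pow_eq_pow_iff_modEq.2 (by rw [order_X]; exact (Nat.mod_modEq _ _))).symm
  have hm0 : m ≠ 0 := by
    intro h0
    rw [h0, pow_zero, MulEquiv.map_eq_one_iff] at hαX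
    have := order_X
    rw [hαX, orderOf_one] at this
    norm_num at this
  have hcomm : Commute (gY⁻¹ * α gY) gX := by
    have e1 : α gY * gX ^ m * (α gY)⁻¹ = (gX ^ m) ^ 4 := by
      rw [← hαX, ← map_inv, ← map_mul, ← map_mul, rel_YX, map_pow]
    have e2 : ∀ n : ℕ, α gY * (gX ^ m) ^ n * (α gY)⁻¹ = ((gX ^ m) ^ n) ^ 4 := fun n => by
      rw [← conj_pow, e1, ← pow_mul, ← pow_mul, ← pow_mul, ← pow_mul]
      congr 1; ring
    obtain ⟨n, hn⟩ : ∃ n : ℕ, (gX ^ m) ^ n = gX := by
      have hcp : Nat.Coprime (orderOf gX) m := by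
        rw [order_X]
        exact (Nat.Prime.coprime_iff_not_dvd (by norm_num)).2 fun hd' => hm0 (Nat.eq_zero_of_dvd_of_lt hd' (Nat.mod_lt _ (by norm_num)))
      exact exists_pow_eq_self_of_coprime hcp.symm
    have e3 : α gY * gX * (α gY)⁻¹ = gY * gX * gY⁻¹ := by
      have := e2 n
      rw [hn] at this
      rw [this, rel_YX]
    rw [Commute, SemiconjBy]
    rw [mul_inv_eq_iff_eq_mul] at e3
    calc gY⁻¹ * α gY * gX = gY⁻¹ * (gY * gX * gY⁻¹ * α gY) := by rw [mul_assoc, e3]
      _ = gX * (gY⁻¹ * α gY) := by group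
  obtain ⟨s, hs⟩ := cent_X hcomm
  have hαY : α gY = gY * gX ^ s := by rw [← hs, mul_inv_cancel_left]
  obtain ⟨t, ht⟩ := shift_cases ⟨s % 29, Nat.mod_lt _ (by norm_num)⟩
  simp only at ht
  obtain ⟨j, hj⟩ := square_cases ⟨m, Nat.mod_lt _ (by norm_num)⟩ hm0
  refine ⟨gY ^ j.val * gX ^ t.val * h, m * 4 ^ j.val % 29, hj, ?_, ?_⟩
  · show gY ^ j.val * gX ^ t.val * h * φ gX * (gY ^ j.val * gX ^ t.val * h)⁻¹ = _
    rw [show gY ^ j.val * gX ^ t.val * h * φ gX * (gY ^ j.val * gX ^ t.val * h)⁻¹ =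
      gY ^ j.val * (gX ^ t.val * (h * φ gX * h⁻¹) * (gX ^ t.val)⁻¹) * (gY ^ j.val)⁻¹ by group,
      show h * φ gX * h⁻¹ = gX ^ m from hαX, ((Commute.refl gX).pow_pow t.val m).eq, mul_inv_cancel_right,
      Y_pow_X, pow_eq_pow_iff_modEq, order_X]
    exact (Nat.mod_modEq _ _).symm
  · show gY ^ j.val * gX ^ t.val * h * φ gY * (gY ^ j.val * gX ^ t.val * h)⁻¹ = _
    have h1 : gX ^ t.val * (h * φ gY * h⁻¹) * (gX ^ t.val)⁻¹ = gY := by
      rw [show h * φ gY * h⁻¹ = gY * gX ^ s from hαY, ← mul_assoc, X_pow_Y, mul_assoc gY, ← pow_add,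
        mul_inv_eq_iff_eq_mul]
      congr 1
      rw [pow_eq_pow_iff_modEq, order_X, Nat.ModEq]
      omega
    rw [show gY ^ j.val * gX ^ t.val * h * φ gY * (gY ^ j.val * gX ^ t.val * h)⁻¹ =
      gY ^ j.val * (gX ^ t.val * (h * φ gY * h⁻¹) * (gX ^ t.val)⁻¹) * (gY ^ j.val)⁻¹ by group, h1,
      ((Commute.refl gY).pow_left j.val).eq, mul_inv_cancel_right]

theorem conj_surjective : Function.Surjective (MulAut.conj : Ru →* MulAut Ru) := by
  intro φ
  obtain ⟨g, m, hm, hX, hY⟩ := normalise φ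
  set γ := MulAut.conj g * φ with hγ
  have hU : γ gU = gU := by rw [← rel_YY, map_mul, hY]
  have hJ : γ gJ = gJ := by rw [← rel_Y7, map_pow, hY]
  have hHsq : γ gH * γ gH = 1 := by rw [← map_mul, rel_HH, map_one]
  have hHc : Commute (γ gH) gU := by
    have := rel_HU.map γ.toMonoidHom
    simpa only [MulEquiv.coe_toMonoidHom, hU] using this
  have hH1 : γ gH ≠ 1 := fun e => el_ne_one wH_lt (by simp) ((MulEquiv.map_eq_one_iff γ).1 e)
  have hHJ : γ gH ≠ gJ := fun e => by
    have e' : gH = gJ := γ.injective (e.trans hJ.symm)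
    refine el_ne_one (app_lt' wH_lt wJ_lt) (by simp) ?_
    rw [el_append]
    show gH * gJ = 1
    rw [e', rel_JJ]
  have hrel : (gX ^ m * γ gH * (gX ^ (4 * m) * γ gH)) ^ 12 = 1 := by
    have := congrArg γ relation
    simp only [map_pow, map_mul, map_one, hX, ← pow_mul] at this
    rwa [Nat.mul_one, Nat.mul_comm m (4 * 1), Nat.mul_one] at this
  obtain ⟨rfl, hH⟩ : m = 1 ∧ γ gH = gH := by
    rcases invol_cent hHc hHsq with e | e | e | e
    · exact absurd e hH1
    · rcases hm with rfl | rfl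
      · exact ⟨rfl, e⟩
      · rw [e] at hrel
        exact absurd hrel (other wH_lt (by simp))
    · exact absurd e hHJ
    · rw [e, show gH * gJ = el (wH ++ wJ) from (el_append _ _).symm] at hrel
      rcases hm with rfl | rfl <;> exact absurd hrel (other (app_lt' wH_lt wJ_lt) (by simp))
  rw [pow_one] at hX
  let F : Subgroup Ru :=
    { carrier := {x | γ x = x}
      one_mem' := map_one γ
      mul_mem' := fun {x y} (hx : _ = _) (hy : _ = _) => by show γ (x * y) = x * y; rw [map_mul, hx, hy]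
      inv_mem' := fun {x} (hx : _ = _) => by show γ x⁻¹ = x⁻¹; rw [map_inv, hx] }
  have hF := generate (K := F) hX hY hH
  refine ⟨g⁻¹, ?_⟩
  have h1 : γ = 1 := MulEquiv.ext fun x => (hF ▸ Subgroup.mem_top x : x ∈ F)
  rw [map_inv]
  exact inv_eq_of_mul_eq_one_right (hγ ▸ h1)

theorem card_out : Nat.card (Cfsg.Out Ru) = 1 := by
  have htop : Cfsg.Inn Ru = ⊤ := MonoidHom.range_eq_top.2 conj_surjective
  show Nat.card (MulAut Ru ⧸ Cfsg.Inn Ru) = 1
  rw [htop]
  exact Nat.card_eq_one_iff_unique.2 ⟨QuotientGroup.subsingleton_quotient_top, ⟨1⟩⟩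

end Cfsg.Agent.RuOut
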